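import Groth.Agent.Lib.AlgSpace.Diag
import Groth.Agent.Lib.AlgSpMor.AffineDescent
import Groth.Agent.Lib.Lim.Existence

/-!
# Limits of algebraic spaces with affine transition maps
-/

set_option autoImplicit false
set_option backward.isDefEq.respectTransparency false
set_option backward.isDefEq.respectTransparency.types false

universe u

open CategoryTheory CategoryTheory.Limits AlgebraicGeometry

namespace Groth.Agent.Lib.SpLimit

open AlgSp (Sp yon Representable RepWith IsAlgSpace)
open Groth.Agent.Lib.AlgSpace

variable {S : Scheme.{u}} {I : Type u} [SmallCategory I] [IsCofiltered I]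
  (D : I ⥤ AlgSp.Sp S) (hD : ∀ {i j : I} (φ : i ⟶ j), RepWith @IsAffineHom (D.map φ))
  {c : Cone D} (hc : IsLimit c)

include hD hc in
/-- The projections of the limit are affine. -/
theorem repWith_π (i : I) : RepWith @IsAffineHom (c.π.app i) := by
  refine repWith_of_exists fun T ξ => ?_
  choose W w x sq hw using fun k : Over i => repWith_exists (hD k.hom) ξ
  have hm : ∀ {k k' : Over i} (m : k' ⟶ k), ∃ n : W k' ⟶ W k, (yon S).map n ≫ x k = x k' ≫ D.map m.left ∧
      n ≫ w k = w k' := fun {k k'} m => by
    have e : (x k' ≫ D.map m.left) ≫ D.map k.hom = (yon S).map (w k') ≫ ξ := by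
      rw [Category.assoc, ← D.map_comp, Over.w m]
      exact (sq k').w
    obtain ⟨n, hn⟩ := (yon S).map_surjective ((sq k).lift _ _ e)
    refine ⟨n, ?_, (yon S).map_injective ?_⟩
    · rw [hn, (sq k).lift_fst]
    · rw [Functor.map_comp, hn, (sq k).lift_snd]
  choose n hn₁ hn₂ using @hm
  have uniq : ∀ {k : Over i} {Z : Over S} (p q : Z ⟶ W k), (yon S).map p ≫ x k = (yon S).map q ≫ x k →
      p ≫ w k = q ≫ w k → p = q := fun {k Z} p q h₁ h₂ =>
    (yon S).map_injective ((sq k).hom_ext h₁ (by rw [← Functor.map_comp, ← Functor.map_comp, h₂]))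
  let E : Over i ⥤ Over S :=
    { obj := W
      map := fun m => n m
      map_id := fun k => uniq _ _ (by
        rw [hn₁, CategoryTheory.Functor.map_id, Category.id_comp, Over.id_left, CategoryTheory.Functor.map_id,
          Category.comp_id]) (by rw [hn₂, Category.id_comp])
      map_comp := fun {a b d} f g => uniq _ _ (by
        rw [hn₁, Functor.map_comp, Category.assoc, hn₁ g, ← Category.assoc, hn₁ f, Category.assoc, ← D.map_comp,
          Over.comp_left]) (by rw [Category.assoc, hn₂, hn₂, hn₂]) }
  have : ∀ {a b : Over i} (f : a ⟶ b), IsAffineHom ((E ⋙ Over.forget S).map f) := fun {a b} f => by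
    have : IsAffineHom (w b).left := hw b
    have : IsAffineHom ((n f).left ≫ (w b).left) := by
      rw [← Over.comp_left, hn₂]
      exact hw a
    exact IsAffineHom.of_comp (n f).left (w b).left
  obtain ⟨L, hL, hLa⟩ := Lib.Lim.Existence.exists_isLimit (E ⋙ Over.forget S)
  let top : Over i := Over.mk (𝟙 i)
  let V : Over S := Over.mk ((L.π.app top ≫ (w top).left) ≫ T.hom)
  let π' : ∀ k : Over i, V ⟶ W k := fun k => Over.homMk (L.π.app k) (by
    let t : k ⟶ top := Over.homMk k.hom (Category.comp_id _)
    change L.π.app k ≫ (W k).hom = (L.π.app top ≫ (w top).left) ≫ T.hom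
    rw [← Over.w (w k), ← hn₂ t, Over.comp_left, Category.assoc, Category.assoc, ← Category.assoc (L.π.app k)]
    exact congrArg (· ≫ (w top).left ≫ T.hom) (L.w t))
  have hπ' : ∀ {a b : Over i} (f : a ⟶ b), π' a ≫ n f = π' b := fun f => Over.OverMorphism.ext (L.w f)
  let v : V ⟶ T := π' top ≫ w top
  have hv : ∀ k, π' k ≫ w k = v := fun k => by
    let t : k ⟶ top := Over.homMk k.hom (Category.comp_id _)
    change π' k ≫ w k = π' top ≫ w top
    rw [← hπ' t, Category.assoc, hn₂]
  have hcJ := (Functor.Initial.isLimitWhiskerEquiv (Over.forget i) c).symm hc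
  let cV : Cone (Over.forget i ⋙ D) :=
    { pt := (yon S).obj V
      π := { app := fun k => (yon S).map (π' k) ≫ x k
             naturality := fun a b f => by
              change 𝟙 _ ≫ (yon S).map (π' b) ≫ x b = ((yon S).map (π' a) ≫ x a) ≫ D.map f.left
              rw [Category.id_comp, Category.assoc, ← hn₁, ← Category.assoc, ← Functor.map_comp, hπ'] } }
  let fst : (yon S).obj V ⟶ c.pt := hcJ.lift cV
  have hfst : ∀ k : Over i, fst ≫ c.π.app k.left = (yon S).map (π' k) ≫ x k := fun k => hcJ.fac cV k
  refine ⟨V, v, fst, isPullback_of_yon ?_ (fun Z p p' h₁ h₂ => ?_) (fun Z a b h => ?_), ?_⟩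
  · have e : x top ≫ 𝟙 (D.obj i) = (yon S).map (w top) ≫ ξ :=
      (congrArg (x top ≫ ·) (D.map_id i).symm).trans (sq top).w
    refine (hfst top).trans ?_
    rw [← Category.comp_id (x top)]
    erw [e]
    rw [← Category.assoc, ← Functor.map_comp]
  · obtain ⟨p, rfl⟩ := (yon S).map_surjective p
    obtain ⟨p', rfl⟩ := (yon S).map_surjective p'
    rw [← Functor.map_comp, ← Functor.map_comp] at h₂
    have h₂' := (yon S).map_injective h₂
    refine congrArg _ (Over.OverMorphism.ext (hL.hom_ext fun k => ?_))
    have : p ≫ π' k = p' ≫ π' k := uniq _ _ (by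
      rw [Functor.map_comp, Functor.map_comp, Category.assoc, Category.assoc, ← hfst k, reassoc_of% h₁])
      (by rw [Category.assoc, Category.assoc, hv, h₂'])
    exact congrArg (fun m => m.left) this
  · obtain ⟨b, rfl⟩ := (yon S).map_surjective b
    have hk : ∀ k : Over i, ∃ q : Z ⟶ W k, (yon S).map q ≫ x k = a ≫ c.π.app k.left ∧ q ≫ w k = b := fun k => by
      have e : (a ≫ c.π.app k.left) ≫ D.map k.hom = (yon S).map b ≫ ξ := by
        rw [Category.assoc]
        exact (congrArg (a ≫ ·) (c.w k.hom)).trans h
      obtain ⟨q, hq⟩ := (yon S).map_surjective ((sq k).lift _ _ e)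
      refine ⟨q, ?_, (yon S).map_injective ?_⟩
      · rw [hq, (sq k).lift_fst]
      · rw [Functor.map_comp, hq, (sq k).lift_snd]
    choose q hq₁ hq₂ using hk
    have hnat : ∀ {k k' : Over i} (f : k ⟶ k'), q k ≫ n f = q k' := fun {k k'} f => uniq _ _ (by
      rw [Functor.map_comp, Category.assoc, hn₁, reassoc_of% hq₁, hq₁]
      exact congrArg (a ≫ ·) (c.w f.left)) (by rw [Category.assoc, hn₂, hq₂, hq₂])
    let cZ : Cone (E ⋙ Over.forget S) :=
      { pt := Z.left
        π := { app := fun k => (q k).left
               naturality := fun k k' f => by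
                simp only [Functor.const_obj_map, Category.id_comp]
                exact (congrArg (fun m => m.left) (hnat f)).symm } }
    have hl : ∀ k, hL.lift cZ ≫ L.π.app k = (q k).left := hL.fac cZ
    let r : Z ⟶ V := Over.homMk (hL.lift cZ) (by
      change hL.lift cZ ≫ (L.π.app top ≫ (w top).left) ≫ T.hom = Z.hom
      rw [Category.assoc, reassoc_of% hl, Over.w (w top), Over.w (q top)])
    have hr : ∀ k, r ≫ π' k = q k := fun k => Over.OverMorphism.ext (hl k)
    refine ⟨(yon S).map r, hcJ.hom_ext fun k => ?_, ?_⟩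
    · change ((yon S).map r ≫ fst) ≫ c.π.app k.left = a ≫ c.π.app k.left
      rw [Category.assoc, hfst, ← Category.assoc, ← Functor.map_comp, hr, hq₁]
    · rw [← Functor.map_comp]
      refine congrArg _ ?_
      change r ≫ π' top ≫ w top = b
      rw [reassoc_of% hr, hq₂]
  · have : IsAffineHom (w top).left := hw top
    have : IsAffineHom (L.π.app top) := hLa top
    exact inferInstanceAs (IsAffineHom (L.π.app top ≫ (w top).left))

end Groth.Agent.Lib.SpLimit
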